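import Cfsg.Agent.H560.FD.Trans
import Cfsg.Agent.H478.CC.DDefs

/-!
# Totally singular chains of the hyperbolic form and the standard flags (helper560, S4884 F-D)

* `exists_std` : a chain of totally singular subspaces containing one of dimension `n + 2` is mapped by `E Q` to a
  standard flag;
* `finrank_std`, `admQ_std`, `finrank_le_of_admQ`.
-/

set_option autoImplicit false

namespace Cfsg.Agent.H560.CC

open Module QuadraticMap Cfsg
open Cfsg.Agent.LieClassical Cfsg.Agent.LieClassical.OrthCore Cfsg.Agent.LieClassical.OrthTrans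
  Cfsg.Agent.LieClassical.OrthForms
open Cfsg.Agent.TitsThree Cfsg.Agent.TitsThree.Siegel Cfsg.Agent.TitsThree.SiegelGen
  Cfsg.Agent.TitsThree.WittFrame Cfsg.Agent.TitsThree.WBridge Cfsg.Agent.TitsThree.KSideO
  Cfsg.Agent.Nodes.WittInst
open Cfsg.Agent.H560.FD Cfsg.Agent.H478.CC

variable {F : Type*} [Field F] {n : ℕ}

theorem std_eq_stdF (s : Bool) (k : ℕ) : (std s k : Submodule F _) = stdF (wplus (n + 2) F) s k := by
  unfold std stdF
  congr 1
  ext v
  have h : ∀ i : Fin (n + 2), zz s i = (i, if (i : ℕ) = n + 1 then s else true) := by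
    intro i
    unfold zz
    congr 2
    rw [Fin.ext_iff, Fin.val_last]
  constructor
  · rintro ⟨i, hi, rfl⟩
    exact ⟨i, hi, by rw [← h]⟩
  · rintro ⟨i, hi, rfl⟩
    exact ⟨i, hi, by rw [← h]⟩

/-- the standard vectors are independent -/
theorem linInd_zz (s : Bool) : LinearIndependent F fun i : Fin (n + 2) => (Fr n F).b (zz s i) := by
  have hp : ∀ i j : Fin (n + 2), polar (Qp n F) ((Fr n F).b (zz s i)) ((Fr n F).b ((zz s j).1, !(zz s j).2)) =
      if i = j then 1 else 0 := by
    intro i j
    have hb : ∀ (t : Bool), polar (Qp n F) ((Fr n F).b (i, t)) ((Fr n F).b (j, !t)) = if i = j then 1 else 0 := by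
      intro t
      cases t
      · exact W_fe (wplus (n + 2) F) i j
      · exact W_ef (wplus (n + 2) F) i j
    have hne : ∀ (t u : Bool), i ≠ j → polar (Qp n F) ((Fr n F).b (i, t)) ((Fr n F).b (j, u)) = 0 := by
      intro t u hij
      cases t <;> cases u
      · exact W_ff (wplus (n + 2) F) i j
      · rw [show polar (Qp n F) ((Fr n F).b (i, false)) ((Fr n F).b (j, true)) = if i = j then 1 else 0 from
          W_fe (wplus (n + 2) F) i j, if_neg hij]
      · rw [show polar (Qp n F) ((Fr n F).b (i, true)) ((Fr n F).b (j, false)) = if i = j then 1 else 0 from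
          W_ef (wplus (n + 2) F) i j, if_neg hij]
      · exact W_ee (wplus (n + 2) F) i j
    rcases eq_or_ne i j with rfl | hij
    · exact hb _
    · rw [if_neg hij]
      exact hne _ _ hij
  rw [Fintype.linearIndependent_iff]
  intro a ha i
  have h1 : polar (Qp n F) (∑ j, a j • (Fr n F).b (zz s j)) ((Fr n F).b ((zz s i).1, !(zz s i).2)) = a i := by
    have h2 : ∀ S : Finset (Fin (n + 2)), polar (Qp n F) (∑ j ∈ S, a j • (Fr n F).b (zz s j))
        ((Fr n F).b ((zz s i).1, !(zz s i).2)) = ∑ j ∈ S, a j * (if j = i then 1 else 0) := by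
      intro S
      classical
      induction S using Finset.induction_on with
      | empty => rw [Finset.sum_empty, Finset.sum_empty, polar_zero_left]
      | insert b S hb ih =>
        rw [Finset.sum_insert hb, Finset.sum_insert hb, polar_add_left, ih, polar_smul_left, hp, smul_eq_mul]
    rw [h2]
    simp
  rw [ha, polar_zero_left] at h1
  exact h1.symm

theorem finrank_std (s : Bool) {k : ℕ} (hk : k ≤ n + 2) : finrank F (std s k : Submodule F (Fin (n + 2) ⊕ Fin (n + 2) → F)) = k := by
  have h1 : (std s k : Submodule F (Fin (n + 2) ⊕ Fin (n + 2) → F)) =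
      Submodule.span F (Set.range fun i : Fin k => (Fr n F).b (zz s (Fin.castLE hk i))) := by
    unfold std
    congr 1
    ext v
    constructor
    · rintro ⟨i, hi, rfl⟩
      exact ⟨⟨i, hi⟩, rfl⟩
    · rintro ⟨i, rfl⟩
      exact ⟨Fin.castLE hk i, i.2, rfl⟩
  have h2 : LinearIndependent F fun i : Fin k => (Fr n F).b (zz s (Fin.castLE hk i)) :=
    (linInd_zz s).comp _ (Fin.castLE_injective hk)
  rw [h1, finrank_span_eq_card h2, Fintype.card_fin]

/-- the span of orthogonal singular vectors is totally singular -/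
theorem sing_span {V : Type*} [AddCommGroup V] [Module F V] (Q : QuadraticForm F V) {S : Set V} (h0 : ∀ v ∈ S, Q v = 0)
    (h1 : ∀ v ∈ S, ∀ w ∈ S, polar Q v w = 0) : ∀ v ∈ Submodule.span F S, Q v = 0 := by
  have h2 : ∀ w ∈ S, ∀ v ∈ Submodule.span F S, polar Q v w = 0 := by
    intro w hw v hv
    induction hv using Submodule.span_induction with
    | mem v hv => exact h1 v hv w hw
    | zero => exact polar_zero_left _ _
    | add v v' _ _ h h' => rw [polar_add_left, h, h', add_zero]
    | smul a v _ h => rw [polar_smul_left, h, smul_zero]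
  have h3 : ∀ v ∈ Submodule.span F S, ∀ w ∈ Submodule.span F S, polar Q v w = 0 := by
    intro v hv w hw
    induction hw using Submodule.span_induction with
    | mem w hw => exact h2 w hw v hv
    | zero => exact polar_zero_right _ _
    | add v v' _ _ h h' => rw [polar_add_right, h, h', add_zero]
    | smul a v _ h => rw [polar_smul_right, h, smul_zero]
  intro v hv
  induction hv using Submodule.span_induction with
  | mem v hv => exact h0 v hv
  | zero => exact QuadraticMap.map_zero Q
  | add v v' hv hv' h h' => rw [Q_add, h, h', h3 v hv v' hv']; ring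
  | smul a v _ h => rw [QuadraticMap.map_smul, h, smul_zero]

theorem admQ_std (s : Bool) (k : ℕ) : AdmQ (std s k : Submodule F (Fin (n + 2) ⊕ Fin (n + 2) → F)) := by
  refine sing_span (Qp n F) ?_ ?_
  · rintro _ ⟨i, -, rfl⟩
    change (Qp n F) ((Fr n F).b (zz s i)) = 0
    generalize zz s i = w
    rcases w with ⟨i, t⟩
    cases t
    · exact W_f (wplus (n + 2) F) i
    · exact W_e (wplus (n + 2) F) i
  · rintro _ ⟨i, -, rfl⟩ _ ⟨j, -, rfl⟩
    change polar (Qp n F) ((Fr n F).b (i, if i = Fin.last (n + 1) then s else true))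
      ((Fr n F).b (j, if j = Fin.last (n + 1) then s else true)) = 0
    have hee : polar (Qp n F) ((Fr n F).b (i, true)) ((Fr n F).b (j, true)) = 0 := W_ee (wplus (n + 2) F) i j
    have hff : polar (Qp n F) ((Fr n F).b (i, false)) ((Fr n F).b (j, false)) = 0 := W_ff (wplus (n + 2) F) i j
    have hef : i ≠ j → polar (Qp n F) ((Fr n F).b (i, true)) ((Fr n F).b (j, false)) = 0 := fun hij => by
      rw [show polar (Qp n F) ((Fr n F).b (i, true)) ((Fr n F).b (j, false)) = if i = j then 1 else 0 from
        W_ef (wplus (n + 2) F) i j, if_neg hij]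
    have hfe : i ≠ j → polar (Qp n F) ((Fr n F).b (i, false)) ((Fr n F).b (j, true)) = 0 := fun hij => by
      rw [show polar (Qp n F) ((Fr n F).b (i, false)) ((Fr n F).b (j, true)) = if i = j then 1 else 0 from
        W_fe (wplus (n + 2) F) i j, if_neg hij]
    by_cases h1 : i = Fin.last (n + 1)
    · by_cases h2 : j = Fin.last (n + 1)
      · rw [if_pos h1, if_pos h2]
        cases s
        · exact hff
        · exact hee
      · rw [if_pos h1, if_neg h2]
        cases s
        · exact hfe (fun h => h2 (h ▸ h1))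
        · exact hee
    · by_cases h2 : j = Fin.last (n + 1)
      · rw [if_neg h1, if_pos h2]
        cases s
        · exact hef (fun h => h1 (h ▸ h2))
        · exact hee
      · rw [if_neg h1, if_neg h2]
        exact hee

/-- totally singular subspaces have dimension at most `n + 2` -/
theorem finrank_le_of_admQ {U : Submodule F (Fin (n + 2) ⊕ Fin (n + 2) → F)} (hU : AdmQ U) : finrank F U ≤ n + 2 := by
  have h1 := H410.BR.finrank_pp (Q := Qp n F) (nondeg_plusForm (n + 2) F) U
  have h2 : U ≤ H410.BR.pp (polarBilin (Qp n F)) U := by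
    intro x hx y hy
    change polar (Qp n F) x y = 0
    rw [polar, hU _ (add_mem hx hy), hU x hx, hU y hy]
    ring
  have h3 := Submodule.finrank_mono h2
  rw [Module.finrank_fintype_fun_eq_card, Fintype.card_sum, Fintype.card_fin] at h1
  omega

/-- **chains of totally singular subspaces and the standard flags** -/
theorem exists_std (hG : Good (Qp n F)) (c : Finset (Submodule F (Fin (n + 2) ⊕ Fin (n + 2) → F)))
    (hc : IsChain (· ≤ ·) (c : Set (Submodule F (Fin (n + 2) ⊕ Fin (n + 2) → F)))) (hA : ∀ U ∈ c, AdmQ U)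
    (hN : ∃ U ∈ c, finrank F U = n + 2) :
    ∃ g ∈ E (Qp n F), ∃ s : Bool, ∀ U ∈ c,
      U.map (g : (Fin (n + 2) ⊕ Fin (n + 2) → F) →ₗ[F] (Fin (n + 2) ⊕ Fin (n + 2) → F)) = std s (finrank F U) := by
  classical
  have hle : ∀ U ∈ c, ∀ U' ∈ c, finrank F U ≤ finrank F U' → U ≤ U' := by
    intro U hU U' hU' h
    rcases hc.total hU hU' with h1 | h1
    · exact h1
    · exact (Submodule.eq_of_le_of_finrank_le h1 h).ge
  let d : ℕ → Submodule F (Fin (n + 2) ⊕ Fin (n + 2) → F) := fun k =>
    if h : ∃ U ∈ c, finrank F U = k then h.choose else ⊥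
  have hd : ∀ k ∈ c.image (fun U : Submodule F (Fin (n + 2) ⊕ Fin (n + 2) → F) => finrank F U), d k ∈ c ∧ finrank F (d k) = k := by
    intro k hk
    obtain ⟨U, hU, hUk⟩ := Finset.mem_image.1 hk
    have h : ∃ U ∈ c, finrank F U = k := ⟨U, hU, hUk⟩
    have : d k = h.choose := dif_pos h
    rw [this]
    exact h.choose_spec
  have hdU : ∀ U ∈ c, d (finrank F U) = U := by
    intro U hU
    obtain ⟨h1, h2⟩ := hd _ (Finset.mem_image_of_mem _ hU)
    exact le_antisymm (hle _ h1 _ hU h2.le) (hle _ hU _ h1 h2.ge)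
  obtain ⟨U0, hU0, hU0n⟩ := hN
  have hn2 : n + 2 ∈ c.image (fun U : Submodule F (Fin (n + 2) ⊕ Fin (n + 2) → F) => finrank F U) := Finset.mem_image.2 ⟨U0, hU0, hU0n⟩
  obtain ⟨g, hg, s, hgs⟩ := exists_E_flag (wplus (n + 2) F) hG (K := c.image (fun U : Submodule F (Fin (n + 2) ⊕ Fin (n + 2) → F) => finrank F U)) (c := d)
    (fun k hk => by
      obtain ⟨h1, h2⟩ := hd k hk
      rw [← h2]
      exact finrank_le_of_admQ (hA _ h1)) hn2 (hA _ (hd _ hn2).1) (fun k hk => (hd k hk).2)
    (fun k hk l hl hkl => hle _ (hd k hk).1 _ (hd l hl).1 (by rw [(hd k hk).2, (hd l hl).2]; exact hkl))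
  refine ⟨g⁻¹, inv_mem hg, s, fun U hU => ?_⟩
  have h1 := hgs _ (Finset.mem_image_of_mem _ hU)
  change d (finrank F U) = _ at h1
  rw [hdU U hU] at h1
  rw [std_eq_stdF]
  exact H410.BR.map_inv_eq h1.symm

end Cfsg.Agent.H560.CC
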